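import Groth.Agent.LA96.KLim.Main
import Mathlib.RingTheory.MvPolynomial.Ideal
import Mathlib.RingTheory.Regular.RegularSequence

/-! # The limit Koszul cohomology of a polynomial ring in its variables -/

set_option autoImplicit false
set_option linter.style.haveILetI false

universe u

open CategoryTheory CochainComplex MvPolynomial

namespace Groth.Agent.LA96.KLim

open Groth.Agent.Koszul15

section top

variable {A : Type u} [CommRing A] (M : ModuleCat.{u} A)

local notation "K(" fs ", " M ")" => CohIII.koszulCx M fs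

/-- The top degree coordinate. -/
noncomputable def topC : ∀ l : List A, K(l, M).X 0 →ₗ[A] M
  | [] => (HomologicalComplex.singleObjXSelf (ComplexShape.up ℤ) 0 M).hom.hom
  | f :: l => (topC l).comp (sndK M f l 0)

theorem topC_surjective : ∀ l : List A, Function.Surjective (topC M l)
  | [] => (HomologicalComplex.singleObjXSelf (ComplexShape.up ℤ) 0 M).toLinearEquiv.surjective
  | f :: l => fun m => by
    obtain ⟨y, hy⟩ := topC_surjective l m
    exact ⟨mkK M f l 0 (0, y), (congrArg (topC M l) (sndK_mkK _ _ _ _ _ _)).trans hy⟩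

theorem topC_injective : ∀ l : List A, Function.Injective (topC M l)
  | [] => (HomologicalComplex.singleObjXSelf (ComplexShape.up ℤ) 0 M).toLinearEquiv.injective
  | f :: l => fun z z' h =>
    consExt ((ModuleCat.subsingleton_of_isZero (isZero_X M l (0 + 1) (Or.inl (by omega)))).elim _ _)
      (topC_injective l h)

theorem topC_trans {n m : ℕ} (h : n ≤ m) : ∀ (l : List A) (z : K(l.map (· ^ n), M).X 0),
    topC M (l.map (· ^ m)) ((CohIII.koszulTrans M n m h l).f 0 z) =
      (l.map (· ^ (m - n))).prod • topC M (l.map (· ^ n)) z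
  | [], z => by simp only [List.map_nil, List.prod_nil, one_smul]; rfl
  | f :: l, z => by
    refine (congrArg (topC M _) (cs_trans M h f l 0 z)).trans ?_
    rw [map_smul, topC_trans h l, List.map_cons, List.prod_cons, mul_smul]
    rfl

theorem topC_d_succ : ∀ (l : List A) (q : ℤ), q + 1 = 0 → ∀ z : K(l, M).X q,
    ∀ w : K(l, M).X 0, HEq w (K(l, M).d q (q + 1) z) → topC M l w ∈ Ideal.ofList l • (⊤ : Submodule A M)
  | [], q, hq, z, w, hw => by
    obtain rfl : q = -1 := by omega
    rw [eq_of_heq hw, show K(([] : List A), M).d (-1) (-1 + 1) z = 0 from by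
      exact (ConcreteCategory.congr_hom (HomologicalComplex.single_obj_d (ComplexShape.up ℤ) 0 M (-1) (-1 + 1)) z)]
    rw [map_zero]; exact zero_mem _
  | f :: l, q, hq, z, w, hw => by
    obtain rfl : q = -1 := by omega
    rw [eq_of_heq hw]
    show topC M l (sndK M f l (-1 + 1) (K(f :: l, M).d (-1) (-1 + 1) z)) ∈ _
    rw [sndK_d, map_add, map_smul, Ideal.ofList_cons, Submodule.sup_smul]
    exact Submodule.add_mem_sup (Submodule.smul_mem_smul (Ideal.mem_span_singleton_self f) trivial)
      (topC_d_succ l (-1) hq _ _ HEq.rfl)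

theorem topC_d (l : List A) (z : K(l, M).X (-1)) :
    topC M l (K(l, M).d (-1) 0 z) ∈ Ideal.ofList l • (⊤ : Submodule A M) :=
  topC_d_succ M l (-1) rfl z _ HEq.rfl

theorem exists_d_of_topC_mem (l : List A) (w : K(l, M).X 0)
    (hw : topC M l w ∈ Ideal.ofList l • (⊤ : Submodule A M)) : ∃ z, K(l, M).d (-1) 0 z = w := by
  obtain ⟨π, hπ, hker⟩ := exists_top M l
  let e : K(l, M).X 0 ≃ₗ[A] M := LinearEquiv.ofBijective _ ⟨topC_injective M l, topC_surjective M l⟩
  have hmem : w ∈ Ideal.ofList l • (⊤ : Submodule A (K(l, M).X 0)) := by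
    have h1 := Submodule.mem_map_of_mem (f := e.symm.toLinearMap) hw
    rw [Submodule.map_smul'', Submodule.map_top, LinearEquiv.range] at h1
    have h2 : e.symm (topC M l w) = w := e.symm_apply_apply w
    rwa [show e.symm.toLinearMap (topC M l w) = w from h2] at h1
  have h0 : π w = 0 := by
    refine (Submodule.smul_le (P := LinearMap.ker π)).2 (fun r hr x _ => ?_) hmem
    rw [LinearMap.mem_ker, map_smul]
    obtain ⟨m, hm⟩ := Submodule.Quotient.mk_surjective _ (π x)
    rw [← hm, ← Submodule.Quotient.mk_smul, Submodule.Quotient.mk_eq_zero]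
    exact Submodule.smul_mem_smul hr trivial
  exact (show w ∈ LinearMap.range (K(l, M).d (-1) 0).hom from hker ▸ h0)

/-- The top degree equivalence. -/
noncomputable def topE (l : List A) : K(l, M).X 0 ≃ₗ[A] M :=
  LinearEquiv.ofBijective (topC M l) ⟨topC_injective M l, topC_surjective M l⟩

theorem topC_topE_symm (l : List A) (m : M) : topC M l ((topE M l).symm m) = m := (topE M l).apply_symm_apply m

/-- The cycle of an element of the module in top degree. -/
noncomputable def topCyc (l : List A) : M ⟶ K(l, M).cycles 0 :=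
  K(l, M).liftCycles (ModuleCat.ofHom (topE M l).symm.toLinearMap) 1 (by simp)
    ((isZero_X M l 1 (Or.inl one_pos)).eq_of_tgt _ _)

theorem topC_topCyc (l : List A) (m : M) : topC M l (K(l, M).iCycles 0 (topCyc M l m)) = m :=
  (congrArg (topC M l) (ConcreteCategory.congr_hom (K(l, M).liftCycles_i _ 1 _ _) m)).trans (topC_topE_symm M l m)

theorem cycles_ext (l : List A) {c c' : K(l, M).cycles 0}
    (h : topC M l (K(l, M).iCycles 0 c) = topC M l (K(l, M).iCycles 0 c')) : c = c' :=
  (ModuleCat.mono_iff_injective (K(l, M).iCycles 0)).1 inferInstance (topC_injective M l h)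

end top

section poly

variable (A : Type u) [CommRing A] (r : ℕ)

local notation "S" => MvPolynomial (Fin (r + 1)) A

/-- The variables. -/
noncomputable abbrev vars : List S := List.ofFn fun j : Fin (r + 1) => (X j : S)

theorem mem_ofList_iff (n k : ℕ) (x : S) :
    x ∈ Ideal.ofList (((vars A r).map (· ^ n)).take k) • (⊤ : Submodule S S) ↔
      ∀ a ∈ x.support, ∃ j : Fin (r + 1), (j : ℕ) < k ∧ n ≤ a j := by
  have hset : {y : S | y ∈ ((vars A r).map (· ^ n)).take k} =
      (fun s => monomial s (1 : A)) '' {s | ∃ j : Fin (r + 1), (j : ℕ) < k ∧ s = Finsupp.single j n} := by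
    ext y
    simp only [Set.mem_ofPred_eq, List.mem_take_iff_getElem, Set.mem_image]
    constructor
    · rintro ⟨i, hi, rfl⟩
      simp only [List.length_map, List.length_ofFn] at hi
      refine ⟨Finsupp.single ⟨i, by omega⟩ n, ⟨⟨i, by omega⟩, by show i < k; omega, rfl⟩, ?_⟩
      rw [List.getElem_map, List.getElem_ofFn, X_pow_eq_monomial]
    · rintro ⟨s, ⟨j, hj, rfl⟩, rfl⟩
      refine ⟨j, by simp only [List.length_map, List.length_ofFn]; omega, ?_⟩
      rw [List.getElem_map, List.getElem_ofFn, X_pow_eq_monomial]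
  rw [smul_eq_mul, Ideal.mul_top, Ideal.ofList, hset, mem_ideal_span_monomial_image]
  refine forall₂_congr fun a _ => ⟨fun ⟨s, ⟨j, hj, hs⟩, hle⟩ => ⟨j, hj, ?_⟩,
    fun ⟨j, hj, hle⟩ => ⟨_, ⟨j, hj, rfl⟩, Finsupp.single_le_iff.2 hle⟩⟩
  exact Finsupp.single_le_iff.1 (hs ▸ hle)

theorem mem_ofList_iff' (n : ℕ) (x : S) :
    x ∈ Ideal.ofList ((vars A r).map (· ^ n)) • (⊤ : Submodule S S) ↔ ∀ a ∈ x.support, ∃ j, n ≤ a j := by
  have h := mem_ofList_iff A r n (r + 1) x
  rw [List.take_of_length_le (by simp)] at h
  exact h.trans (forall₂_congr fun a _ => ⟨fun ⟨j, _, h⟩ => ⟨j, h⟩, fun ⟨j, h⟩ => ⟨j, j.2, h⟩⟩)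

theorem isWeaklyRegular_pow (n : ℕ) : RingTheory.Sequence.IsWeaklyRegular S ((vars A r).map (· ^ n)) := by
  refine ⟨fun i hi => ?_⟩
  simp only [List.length_map, List.length_ofFn] at hi
  intro u v huv
  obtain ⟨u, rfl⟩ := Submodule.Quotient.mk_surjective _ u
  obtain ⟨v, rfl⟩ := Submodule.Quotient.mk_surjective _ v
  simp only [← Submodule.Quotient.mk_smul] at huv
  rw [Submodule.Quotient.eq, ← smul_sub, mem_ofList_iff] at huv
  rw [Submodule.Quotient.eq, mem_ofList_iff]
  intro a ha
  have hs : ((vars A r).map (· ^ n))[i]'(by simpa using hi) • (u - v) =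
      monomial (Finsupp.single (⟨i, hi⟩ : Fin (r + 1)) n) 1 * (u - v) := by
    rw [List.getElem_map, List.getElem_ofFn, X_pow_eq_monomial, smul_eq_mul]
  obtain ⟨j, hj, hle⟩ := huv (Finsupp.single (⟨i, hi⟩ : Fin (r + 1)) n + a) (by
    rw [mem_support_iff, hs, coeff_monomial_mul, one_mul]
    exact mem_support_iff.1 ha)
  refine ⟨j, hj, ?_⟩
  rwa [Finsupp.add_apply, Finsupp.single_eq_of_ne (fun h => by
    have := congrArg Fin.val h; simp at this; omega), zero_add] at hle

theorem subsingleton_of_ne {i : ℕ} (hi : i ≠ r + 1) :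
    Subsingleton (CohIII.koszulHLim (vars A r) (ModuleCat.of S S) i) := by
  have h : ∀ z : HL (vars A r) (ModuleCat.of S S) ((i : ℤ) - (vars A r).length), z = 0 := fun z => by
    obtain ⟨n, x, rfl⟩ := Module.DirectLimit.exists_of z
    have h0 := isZero_homology_of_isWeaklyRegular ((vars A r).map (· ^ n)) (ModuleCat.of S S)
      (isWeaklyRegular_pow A r n) ((i : ℤ) - (vars A r).length) (by simp; omega)
    rw [(ModuleCat.subsingleton_of_isZero h0).elim x 0, map_zero]
  exact ⟨fun a b => (h a).trans (h b).symm⟩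

/-- Exponent vectors. -/
abbrev Ex : Type := Fin (r + 1) → ℕ

/-- The complementary monomial in a box. -/
noncomputable def boxMon (N : ℕ) (e : Ex r) : S :=
  monomial (Finsupp.equivFunOnFinite.symm fun j => N - 1 - e j) 1

theorem boxMon_succ {n N : ℕ} (h : n ≤ N) (e : Ex r) (he : ∀ j, e j < n) :
    ((vars A r).map (· ^ (N - n))).prod * boxMon A r n e = boxMon A r N e := by
  rw [List.map_ofFn, List.prod_ofFn]
  simp only [Function.comp_apply, X_pow_eq_monomial]
  rw [← monomial_sum_one, boxMon, monomial_mul, mul_one, boxMon]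
  congr 2
  ext j
  simp only [Finsupp.add_apply, Finsupp.coe_finsetSum, Finset.sum_apply, Finsupp.single_apply,
    Finset.sum_ite_eq', Finset.mem_univ, if_true, Finsupp.coe_equivFunOnFinite_symm]
  have := he j
  omega

theorem exists_free :
    Module.Free A (RestrictScalars A S (HL (vars A r) (ModuleCat.of S S) 0)) := by
  classical
  let MS := ModuleCat.of S S
  let K : ℕ → CochainComplex (ModuleCat.{u} S) ℤ := fun n => CohIII.koszulCx MS ((vars A r).map (· ^ n))
  let cl : ∀ n, S →ₗ[S] HL (vars A r) MS 0 := fun n =>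
    (Module.DirectLimit.of S ℕ (HP (vars A r) MS 0) (tmap (vars A r) MS 0) n).comp
      (((K n).homologyπ 0).hom.comp (topCyc MS ((vars A r).map (· ^ n))).hom)
  have htrans : ∀ {n N : ℕ} (h : n ≤ N) (x : S), cl n x = cl N (((vars A r).map (· ^ (N - n))).prod * x) := by
    intro n N h x
    refine (Module.DirectLimit.of_f (hij := h)).symm.trans (congrArg _ ?_)
    refine (ConcreteCategory.congr_hom (HomologicalComplex.homologyπ_naturality
      (CohIII.koszulTrans MS n N h (vars A r)) 0) _).trans ?_
    refine congrArg ((K N).homologyπ 0) (cycles_ext MS _ ?_)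
    refine Eq.trans ?_ (topC_topCyc MS _ _).symm
    refine (congrArg (topC MS _) (ConcreteCategory.congr_hom
      (HomologicalComplex.cyclesMap_i (CohIII.koszulTrans MS n N h (vars A r)) 0) _)).trans ?_
    refine (topC_trans MS h (vars A r) _).trans ?_
    exact congrArg (((vars A r).map (· ^ (N - n))).prod • ·) (topC_topCyc MS _ x)
  have hsurj : ∀ z, ∃ n x, cl n x = z := fun z => by
    obtain ⟨n, y, rfl⟩ := Module.DirectLimit.exists_of z
    obtain ⟨c, rfl⟩ := (ModuleCat.epi_iff_surjective ((K n).homologyπ 0)).1 inferInstance y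
    exact ⟨n, topC MS _ ((K n).iCycles 0 c), congrArg (Module.DirectLimit.of S ℕ (HP (vars A r) MS 0) (tmap (vars A r) MS 0) n) (congrArg ((K n).homologyπ 0) (cycles_ext MS _ (topC_topCyc MS _ _)))⟩
  have hzero : ∀ n x, cl n x = 0 → ∃ N, n ≤ N ∧
      ((vars A r).map (· ^ (N - n))).prod * x ∈ Ideal.ofList ((vars A r).map (· ^ N)) • (⊤ : Submodule S S) := by
    intro n x hx
    obtain ⟨N, hN, hN0⟩ := Module.DirectLimit.of.zero_exact hx
    refine ⟨N, hN, ?_⟩
    have hπ : (K N).homologyπ 0 (HomologicalComplex.cyclesMap (CohIII.koszulTrans MS n N hN (vars A r)) 0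
        (topCyc MS ((vars A r).map (· ^ n)) x)) = 0 :=
      (ConcreteCategory.congr_hom (HomologicalComplex.homologyπ_naturality
        (CohIII.koszulTrans MS n N hN (vars A r)) 0) _).symm.trans hN0
    obtain ⟨w, hw⟩ := (ShortComplex.moduleCat_exact_iff _).1
      ((ShortComplex.mk ((K N).toCycles (-1) 0) ((K N).homologyπ 0) ((K N).toCycles_comp_homologyπ (-1) 0)).exact_of_g_is_cokernel
        ((K N).homologyIsCokernel (-1) 0 (by simp))) _ hπ
    have h2 := congrArg (fun c => topC MS _ ((K N).iCycles 0 c)) hw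
    rw [← ConcreteCategory.comp_apply ((K N).toCycles (-1) 0), (K N).toCycles_i] at h2
    have h3 : topC MS _ ((K N).iCycles 0 (HomologicalComplex.cyclesMap (CohIII.koszulTrans MS n N hN (vars A r)) 0
        (topCyc MS ((vars A r).map (· ^ n)) x))) = ((vars A r).map (· ^ (N - n))).prod * x := by
      refine (congrArg (topC MS _) (ConcreteCategory.congr_hom
        (HomologicalComplex.cyclesMap_i (CohIII.koszulTrans MS n N hN (vars A r)) 0) _)).trans ?_
      refine (topC_trans MS hN (vars A r) _).trans ?_
      exact congrArg (((vars A r).map (· ^ (N - n))).prod • ·) (topC_topCyc MS _ x)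
    exact (h2.trans h3) ▸ topC_d MS _ w
  have hI : ∀ n x, x ∈ Ideal.ofList ((vars A r).map (· ^ n)) • (⊤ : Submodule S S) → cl n x = 0 := by
    intro n x hx
    obtain ⟨w, hw⟩ := exists_d_of_topC_mem MS ((vars A r).map (· ^ n))
      ((topE MS _).symm x)
      (by rw [topC_topE_symm]; exact hx)
    refine (congrArg (Module.DirectLimit.of S ℕ (HP (vars A r) MS 0) (tmap (vars A r) MS 0) n) ?_).trans (map_zero _)
    refine (congrArg ((K n).homologyπ 0) (cycles_ext MS _ (c' := (K n).toCycles (-1) 0 w) ?_)).trans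
      (ConcreteCategory.congr_hom ((K n).toCycles_comp_homologyπ (-1) 0) w)
    rw [← ConcreteCategory.comp_apply ((K n).toCycles (-1) 0), (K n).toCycles_i]
    exact ((topC_topCyc MS _ x).trans (topC_topE_symm MS _ x).symm).trans (congrArg (topC MS _) hw).symm
  let R := RestrictScalars A S (HL (vars A r) MS 0)
  let ι := (RestrictScalars.addEquiv A S (HL (vars A r) MS 0)).symm
  let bd : Ex r → ℕ := fun e => (∑ j, e j) + 1
  have hbd : ∀ e j, e j < bd e := fun e j =>
    Nat.lt_succ_of_le (Finset.single_le_sum (f := e) (fun _ _ => Nat.zero_le _) (Finset.mem_univ j))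
  let F : (Ex r →₀ A) →ₗ[A] R := Finsupp.linearCombination A fun e => ι (cl (bd e) (boxMon A r (bd e) e))
  have hsmulA : ∀ (c : A) (n : ℕ) (x : S), c • ι (cl n x) = ι (cl n (C c * x)) := fun c n x => by
    rw [← smul_eq_mul, map_smul]
    rfl
  have hF : ∀ (N : ℕ) (l : Ex r →₀ A), (∀ e ∈ l.support, bd e ≤ N) →
      F l = ι (cl N (∑ e ∈ l.support, C (l e) * boxMon A r N e)) := by
    intro N l hl
    rw [show F l = ∑ e ∈ l.support, l e • ι (cl (bd e) (boxMon A r (bd e) e)) from
      Finsupp.linearCombination_apply A l]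
    rw [map_sum, map_sum]
    refine Finset.sum_congr rfl fun e he => ?_
    rw [hsmulA, htrans (hl e he), ← boxMon_succ A r (hl e he) e (hbd e)]
    congr 2
    ring
  refine Module.Free.of_equiv (LinearEquiv.ofBijective F ⟨?_, ?_⟩)
  · rw [injective_iff_map_eq_zero]
    intro l hl
    let N := l.support.sup bd
    rw [hF N l fun e he => Finset.le_sup he, map_eq_zero_iff _ ι.injective] at hl
    obtain ⟨N', hN', hmem⟩ := hzero _ _ hl
    rw [Finset.mul_sum, mem_ofList_iff'] at hmem
    ext e
    by_contra hne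
    have hes : e ∈ l.support := Finsupp.mem_support_iff.2 hne
    have hb : ∀ e' ∈ l.support, ∀ j, e' j < N := fun e' he' j => (hbd e' j).trans_le (Finset.le_sup he')
    have hterm : ∀ e' ∈ l.support, ((vars A r).map (· ^ (N' - N))).prod * (C (l e') * boxMon A r N e') =
        monomial (Finsupp.equivFunOnFinite.symm fun j => N' - 1 - e' j) (l e') := fun e' he' => by
      rw [mul_left_comm, boxMon_succ A r hN' e' (hb e' he'), boxMon, C_mul_monomial, mul_one]
    rw [Finset.sum_congr rfl hterm] at hmem
    obtain ⟨j, hj⟩ := hmem (Finsupp.equivFunOnFinite.symm fun j => N' - 1 - e j) (by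
      rw [mem_support_iff, coeff_sum, Finset.sum_eq_single e]
      · rw [coeff_monomial, if_pos rfl]
        exact Finsupp.mem_support_iff.1 hes
      · intro e' he' hne'
        rw [coeff_monomial, if_neg fun h => hne' (funext fun j => ?_)]
        have h1 := congrArg (fun s : Fin (r + 1) →₀ ℕ => s j) h
        simp only [Finsupp.coe_equivFunOnFinite_symm] at h1
        have := hb e' he' j; have := hb e hes j; omega
      · exact fun h => absurd hes h)
    simp only [Finsupp.coe_equivFunOnFinite_symm] at hj
    have := hb e hes j; omega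
  · intro z
    obtain ⟨z, rfl⟩ := ι.surjective z
    obtain ⟨n, x, rfl⟩ := hsurj z
    suffices h : ∀ x : S, ι (cl n x) ∈ LinearMap.range F from h x
    intro x
    induction x using MvPolynomial.induction_on' with
    | add p q hp hq => rw [map_add, map_add]; exact add_mem hp hq
    | monomial a c =>
      by_cases ha : ∀ j, a j < n
      · let e : Ex r := fun j => n - 1 - a j
        let N := max n (bd e)
        refine ⟨Finsupp.single e c, ?_⟩
        rw [show F (Finsupp.single e c) = c • ι (cl (bd e) (boxMon A r (bd e) e)) from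
            Finsupp.linearCombination_single A c e, hsmulA, htrans (le_max_right n (bd e) : bd e ≤ N),
          htrans (le_max_left n (bd e) : n ≤ N), mul_left_comm,
          boxMon_succ A r (le_max_right n (bd e)) e (hbd e)]
        congr 2
        have hmon : monomial a c = C c * boxMon A r n e := by
          rw [boxMon, C_mul_monomial, mul_one]
          congr 2
          ext j
          simp only [Finsupp.coe_equivFunOnFinite_symm, e]
          have := ha j; omega
        rw [hmon, mul_left_comm, boxMon_succ A r (le_max_left n (bd e)) e fun j => by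
          have := ha j; simp only [e]; omega]
      · push Not at ha
        rw [hI n (monomial a c) ((mem_ofList_iff' A r n _).2 fun b hb => by
          rw [Finset.mem_singleton.1 (support_monomial_subset hb)]; exact ha), map_zero]
        exact zero_mem _

theorem main :
    (∀ i : ℕ, i ≠ r + 1 → Subsingleton (CohIII.koszulHLim (vars A r) (ModuleCat.of S S) i)) ∧
    Module.Free A (RestrictScalars A S (CohIII.koszulHLim (vars A r) (ModuleCat.of S S) (r + 1))) := by
  refine ⟨fun i hi => subsingleton_of_ne A r hi, ?_⟩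
  have h0 : (((r + 1 : ℕ) : ℤ) - (vars A r).length) = 0 := by simp
  show Module.Free A (RestrictScalars A S (HL (vars A r) (ModuleCat.of S S) (((r + 1 : ℕ) : ℤ) - (vars A r).length)))
  rw [h0]
  exact exists_free A r

end poly

end Groth.Agent.LA96.KLim
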